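import Groth.Prelude.Def_W4c3ghconstell
import Groth.Agent.Comod33.Coeff
import Mathlib

/-!
# Isotypic parts and weights of equivariant modules
-/

set_option autoImplicit false
set_option linter.style.haveILetI false

universe u v w x

open TensorProduct W4c3ghconstell Groth.Agent.Comod33

namespace Groth.Agent.GHConst2

section Coalg

variable {k : Type u} [Field k] {A : Type v} [AddCommGroup A] [Module k A] [Coalgebra k A]
variable {M : Type x} [AddCommGroup M] [Module k M] [HopfRep.Comod k A M]

theorem comul_slice_mem {D : Submodule k A} (hD : W4c3ghconstell.IsSubcoalg k A D) (f : A →ₗ[k] k) {d : A} (hd : d ∈ D) :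
    rc f (CoalgebraStruct.comul (R := k) d) ∈ D :=
  rc_mem_of_mem_range f (range_map_subtype_le_right D D (hD d hd))

theorem isSubcoalg_inf {D E : Submodule k A} (hD : W4c3ghconstell.IsSubcoalg k A D) (hE : W4c3ghconstell.IsSubcoalg k A E) :
    W4c3ghconstell.IsSubcoalg k A (D ⊓ E) := fun d hd => by
  refine mem_range_map_subtype ?_ ?_
  · exact (mem_range_rTensor_iff _ _).2 fun f =>
      ⟨rc_mem_of_mem_range f (range_map_subtype_le_right D D (hD d hd.1)),
        rc_mem_of_mem_range f (range_map_subtype_le_right E E (hE d hd.2))⟩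
  · rw [mem_range_lTensor_iff]
    exact fun f =>
      ⟨(mem_range_lTensor_iff _ _).1 (range_map_subtype_le_left D D (hD d hd.1)) f,
        (mem_range_lTensor_iff _ _).1 (range_map_subtype_le_left E E (hE d hd.2)) f⟩

theorem exists_form {D S : Submodule k A} (h : D ⊓ S = ⊥) :
    ∃ φ : A →ₗ[k] k, (∀ a ∈ S, φ a = 0) ∧ ∀ a ∈ D, φ a = CoalgebraStruct.counit (R := k) a := by
  have hinj : LinearMap.ker (S.mkQ ∘ₗ D.subtype) = ⊥ := by
    rw [LinearMap.ker_eq_bot']
    intro d hd
    have h1 : (d : A) ∈ D ⊓ S := ⟨d.2, (Submodule.Quotient.mk_eq_zero S).1 hd⟩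
    rw [h, Submodule.mem_bot] at h1
    exact Subtype.ext h1
  obtain ⟨g, hg⟩ := LinearMap.exists_leftInverse_of_injective _ hinj
  refine ⟨CoalgebraStruct.counit (R := k) ∘ₗ D.subtype ∘ₗ g ∘ₗ S.mkQ, fun a ha => ?_, fun a ha => ?_⟩
  · simp [(Submodule.Quotient.mk_eq_zero S).2 ha]
  · have := LinearMap.congr_fun hg ⟨a, ha⟩
    simp only [LinearMap.comp_apply, LinearMap.id_apply] at this ⊢
    rw [show S.mkQ a = S.mkQ (D.subtype ⟨a, ha⟩) from rfl, this]
    rfl

theorem lc_counit {B : Type*} [AddCommGroup B] [Module k B] (g : B →ₗ[k] A) (φ ψ : A →ₗ[k] k)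
    (h : ∀ b, φ (g b) = ψ (g b)) {V : Type*} [AddCommGroup V] [Module k V] (z : V ⊗[k] B) :
    rc φ (g.lTensor V z) = rc ψ (g.lTensor V z) := by
  rw [rc_lTensor, rc_lTensor, show φ ∘ₗ g = ψ ∘ₗ g from LinearMap.ext h]

theorem eq_of_le_biSup (D : SimpSub k A) (s : Finset (SimpSub k A)) (h : D.1 ≤ ⨆ E ∈ s, E.1) : D ∈ s := by
  classical
  induction s using Finset.induction_on with
  | empty => exact absurd (eq_bot_iff.2 (by simpa using h)) D.2.1
  | @insert E s hE ih =>
    rw [Finset.iSup_insert] at h
    rw [Finset.mem_insert]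
    rcases D.2.2.2 _ inf_le_left (isSubcoalg_inf D.2.2.1 E.2.2.1) with he | he
    · right
      refine ih fun d hd => ?_
      obtain ⟨φ, hφE, hφD⟩ := exists_form he
      set S : Submodule k A := ⨆ F ∈ s, F.1
      have hself : rc φ ((TensorProduct.comm k A A) (CoalgebraStruct.comul (R := k) d)) = d := by
        obtain ⟨y, hy⟩ := D.2.2.1 d hd
        rw [← hy]
        have h1 : rc φ (TensorProduct.comm k A A (TensorProduct.map D.1.subtype D.1.subtype y)) =
            rc (CoalgebraStruct.counit (R := k)) (TensorProduct.comm k A A (TensorProduct.map D.1.subtype D.1.subtype y)) := by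
          clear hy
          induction y using TensorProduct.induction_on with
          | zero => simp
          | tmul p q => simp [hφD _ p.2]
          | add p q hp hq => simp only [map_add, hp, hq]
        rw [h1, hy]
        have h2 := Coalgebra.rTensor_counit_comul (R := k) d
        have h3 : ∀ w : A ⊗[k] A, rc (CoalgebraStruct.counit (R := k)) (TensorProduct.comm k A A w) =
            TensorProduct.lid k A ((CoalgebraStruct.counit (R := k)).rTensor A w) := fun w => by
          induction w using TensorProduct.induction_on with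
          | zero => simp
          | tmul p q => simp
          | add p q hp hq => simp only [map_add, hp, hq]
        rw [h3, h2]
        simp
      rw [← hself]
      have hd' : d ∈ E.1 ⊔ S := h hd
      obtain ⟨e, he', f, hf, rfl⟩ := Submodule.mem_sup.1 hd'
      rw [map_add, map_add, map_add]
      refine add_mem ?_ ?_
      · obtain ⟨y, hy⟩ := E.2.2.1 e he'
        rw [← hy]
        suffices h0 : rc φ (TensorProduct.comm k A A (TensorProduct.map E.1.subtype E.1.subtype y)) = 0 by rw [h0]; exact zero_mem _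
        clear hy
        induction y using TensorProduct.induction_on with
        | zero => simp
        | tmul p q => simp [hφE _ p.2]
        | add p q hp hq => simp only [map_add, hp, hq, add_zero]
      · skip
        have key : ∀ f ∈ S, rc φ ((TensorProduct.comm k A A) (CoalgebraStruct.comul (R := k) f)) ∈ S := by
          intro f hf
          induction hf using Submodule.iSup_induction' with
          | mem F x hx =>
            by_cases hF : F ∈ s
            · rw [iSup_pos hF] at hx
              obtain ⟨y, hy⟩ := F.2.2.1 x hx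
              rw [← hy]
              have h5 : F.1 ≤ S := le_iSup₂ (f := fun F (_ : F ∈ s) => F.1) F hF
              refine h5 ?_
              clear hy
              induction y using TensorProduct.induction_on with
              | zero => simp
              | tmul p q => simp [F.1.smul_mem]
              | add p q hp hq => simp only [map_add]; exact add_mem hp hq
            · rw [iSup_neg hF, Submodule.mem_bot] at hx
              simp [hx]
          | zero => simp
          | add a b _ _ ha hb => simp only [map_add]; exact add_mem ha hb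
        exact key f hf
    · left
      rcases E.2.2.2 D.1 (he ▸ inf_le_right) D.2.2.1 with h' | h'
      · exact absurd h' D.2.1
      · exact Subtype.ext h'

theorem dact_mem_isoComp {D : Submodule k A} (hD : W4c3ghconstell.IsSubcoalg k A D) (f : A →ₗ[k] k) {m : M}
    (hm : m ∈ isoComp M D) : dact (A := A) f m ∈ isoComp M D := by
  obtain ⟨z, hz⟩ := hm
  let h : A →ₗ[k] A := rc f ∘ₗ CoalgebraStruct.comul (R := k) (A := A)
  let h' : D →ₗ[k] D := LinearMap.codRestrict D (h ∘ₗ D.subtype) fun d => comul_slice_mem hD f d.2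
  refine ⟨h'.lTensor M z, ?_⟩
  rw [coact_dact, ← hz, ← LinearMap.comp_apply, ← LinearMap.lTensor_comp, ← LinearMap.comp_apply (LinearMap.lTensor M _),
    ← LinearMap.lTensor_comp]
  rfl

theorem isSubcomod_inf_isoComp {N : Submodule k M} (hN : HopfRep.IsSubcomod (k := k) (A := A) N) (D : SimpSub k A) :
    HopfRep.IsSubcomod (k := k) (A := A) (N ⊓ isoComp M D.1) := by
  rw [isSubcomod_iff] at hN ⊢
  exact fun f u hu => ⟨hN f u hu.1, dact_mem_isoComp D.2.2.1 f hu.2⟩

theorem dact_eq_of_mem {D : Submodule k A} {φ ψ : A →ₗ[k] k} (h : ∀ a ∈ D, φ a = ψ a) {m : M}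
    (hm : m ∈ isoComp M D) : dact (A := A) φ m = dact (A := A) ψ m := by
  obtain ⟨z, hz⟩ := hm
  rw [dact_apply, dact_apply, ← hz]
  exact lc_counit D.subtype φ ψ (fun b => h b b.2) z

/-- A subcomodule of a sum of isotypic components is the sum of its isotypic parts. -/
theorem le_iSup_inf (htop : (⨆ D : SimpSub k A, isoComp M D.1) = ⊤) {N : Submodule k M}
    (hN : HopfRep.IsSubcomod (k := k) (A := A) N) : N ≤ ⨆ D : SimpSub k A, N ⊓ isoComp M D.1 := by
  classical
  intro n hn
  obtain ⟨m, hm, hsum⟩ := (Submodule.mem_iSup_iff_exists_finsupp _ n).1 (htop ▸ Submodule.mem_top (x := n))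
  rw [← hsum]
  refine Submodule.sum_mem _ fun D hD => Submodule.mem_iSup_of_mem D ⟨?_, hm D⟩
  have hdis : D.1 ⊓ (⨆ E ∈ m.support.erase D, E.1) = ⊥ := by
    rw [eq_bot_iff]
    intro a ha
    by_contra ha0
    rw [Submodule.mem_bot] at ha0
    let S : Submodule k A := ⨆ E ∈ m.support.erase D, E.1
    have hS : W4c3ghconstell.IsSubcoalg k A S := by
      intro x hx
      induction hx using Submodule.iSup_induction' with
      | mem E y hy =>
        by_cases hE : E ∈ m.support.erase D
        · rw [iSup_pos hE] at hy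
          obtain ⟨z, hz⟩ := E.2.2.1 y hy
          have h5 : E.1 ≤ S := le_iSup₂ (f := fun E (_ : E ∈ m.support.erase D) => E.1) E hE
          refine ⟨TensorProduct.map (Submodule.inclusion h5) (Submodule.inclusion h5) z, ?_⟩
          rw [← hz, ← LinearMap.comp_apply, ← TensorProduct.map_comp]
          rfl
        · rw [iSup_neg hE, Submodule.mem_bot] at hy
          simp [hy]
      | zero => simp
      | add p q _ _ hp hq => rw [map_add]; exact add_mem hp hq
    rcases D.2.2.2 _ inf_le_left (isSubcoalg_inf D.2.2.1 hS) with he | he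
    · exact ha0 ((Submodule.mem_bot k).1 (he ▸ ha))
    · exact (Finset.notMem_erase D m.support) (eq_of_le_biSup D _ (he ▸ inf_le_right))
  obtain ⟨φ, hφS, hφD⟩ := exists_form hdis
  have h1 := (isSubcomod_iff N).1 hN φ n hn
  rw [← hsum, Finsupp.sum, map_sum, Finset.sum_eq_single D ?_ (fun h => absurd hD h),
    dact_eq_of_mem (ψ := CoalgebraStruct.counit (R := k)) hφD (hm D), dact_counit] at h1
  · exact h1
  · intro E hE hne
    rw [dact_eq_of_mem (ψ := 0) (fun a ha => ?_) (hm E), dact_zero, LinearMap.zero_apply]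
    exact hφS a (le_iSup₂ (f := fun E (_ : E ∈ m.support.erase D) => E.1) E (Finset.mem_erase.2 ⟨hne, hE⟩) ha)

end Coalg

section Stability

variable {k : Type u} [Field k] {A : Type v} [CommRing A] [HopfAlgebra k A]
variable {R : Type w} [CommRing R] [Algebra k R] [HopfRep.Comod k A R]
variable {M : Type x} [AddCommGroup M] [Module k M] [Module R M] [IsScalarTower k R M]
  [HopfRep.Comod k A M] [TameAct.IsHopfMod k A R M]

theorem rTensor_hmSMul (P : Submodule R M) (z : R ⊗[k] A) (y : P ⊗[k] A) :
    TameAct.hmSMul k A R M z ((P.subtype.restrictScalars k).rTensor A y) ∈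
      LinearMap.range ((P.restrictScalars k).subtype.rTensor A) := by
  induction z using TensorProduct.induction_on with
  | zero => simp
  | add p q hp hq => rw [map_add, LinearMap.add_apply]; exact add_mem hp hq
  | tmul r a =>
    induction y using TensorProduct.induction_on with
    | zero => simp
    | add p q hp hq => rw [map_add, map_add]; exact add_mem hp hq
    | tmul y b => exact ⟨(⟨r • (y : M), P.smul_mem r y.2⟩ : P.restrictScalars k) ⊗ₜ[k] (a * b), by simp⟩

theorem isSubcomod_genIn (S : Set (SimpSub k A)) {N : Submodule R M}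
    (hN : HopfRep.IsSubcomod (k := k) (A := A) (N.restrictScalars k)) :
    HopfRep.IsSubcomod (k := k) (A := A) ((genIn k A R M S N).restrictScalars k) := by
  set P := genIn k A R M S N
  intro x hx
  induction (hx : x ∈ P) using Submodule.span_induction with
  | mem y hy =>
    simp only [Set.mem_iUnion, SetLike.mem_coe] at hy
    obtain ⟨D, hD, hy⟩ := hy
    have hle : N.restrictScalars k ⊓ isoComp M D.1 ≤ P.restrictScalars k := fun z hz =>
      Submodule.subset_span (Set.mem_iUnion₂.2 ⟨D, hD, hz⟩)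
    exact range_rTensor_mono hle (isSubcomod_inf_isoComp hN D y hy)
  | zero => simp
  | add a b _ _ ha hb => rw [map_add]; exact add_mem ha hb
  | smul r y _ hy =>
    obtain ⟨z, hz⟩ := hy
    rw [TameAct.IsHopfMod.coact_smul (k := k), ← hz]
    exact rTensor_hmSMul P _ z

theorem genIn_le (S : Set (SimpSub k A)) (N : Submodule R M) : genIn k A R M S N ≤ N :=
  Submodule.span_le.2 fun y hy => by
    simp only [Set.mem_iUnion, SetLike.mem_coe] at hy
    obtain ⟨D, -, hy⟩ := hy
    exact hy.1

theorem inf_genIn {S : Set (SimpSub k A)} (N : Submodule R M) {D : SimpSub k A} (hD : D ∈ S) :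
    (genIn k A R M S N).restrictScalars k ⊓ isoComp M D.1 = N.restrictScalars k ⊓ isoComp M D.1 :=
  le_antisymm (inf_le_inf_right _ (fun x hx => genIn_le S N hx))
    (le_inf (fun x hx => Submodule.subset_span (Set.mem_iUnion₂.2 ⟨D, hD, hx⟩)) inf_le_right)

theorem genIn_idem (S : Set (SimpSub k A)) (N : Submodule R M) :
    genIn k A R M S (genIn k A R M S N) = genIn k A R M S N := by
  refine le_antisymm (genIn_le _ _) (Submodule.span_le.2 fun y hy => ?_)
  simp only [Set.mem_iUnion, SetLike.mem_coe] at hy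
  obtain ⟨D, hD, hy⟩ := hy
  rw [← inf_genIn N hD] at hy
  exact Submodule.subset_span (Set.mem_iUnion₂.2 ⟨D, hD, hy⟩)

variable {h : SimpSub k A → ℕ} {θ : SimpSub k A → ℚ}

theorem hilbAt_le (hM : IsConstellation k A R M h) (N : Submodule k M) (D : SimpSub k A) : hilbAt M N D ≤ h D := by
  haveI := (hM.2.2 D).1
  rw [← (hM.2.2 D).2]
  exact Submodule.finrank_mono inf_le_right

theorem hilbAt_top (hM : IsConstellation k A R M h) (D : SimpSub k A) : hilbAt M (⊤ : Submodule k M) D = h D := by
  rw [hilbAt, top_inf_eq]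
  exact (hM.2.2 D).2

theorem summable_theta (hM : IsConstellation k A R M h) (hsum : Summable fun D => (θ D : ℝ) * (h D : ℝ))
    (N : Submodule k M) : Summable fun D => (θ D : ℝ) * (hilbAt M N D : ℝ) := by
  refine Summable.of_norm_bounded hsum.abs fun D => ?_
  rw [Real.norm_eq_abs, abs_mul, abs_mul, Nat.abs_cast, Nat.abs_cast]
  exact mul_le_mul_of_nonneg_left (by exact_mod_cast hilbAt_le hM N D) (abs_nonneg _)

theorem theta_top (hM : IsConstellation k A R M h) (hsum : HasSum (fun D => (θ D : ℝ) * (h D : ℝ)) 0) :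
    theta M θ (⊤ : Submodule k M) = 0 := by
  rw [theta]
  simp only [hilbAt_top hM]
  exact hsum.tsum_eq

theorem theta_mono (hM : IsConstellation k A R M h) (hsum : Summable fun D => (θ D : ℝ) * (h D : ℝ))
    {N N' : Submodule k M} (hle : N' ≤ N) (heq : ∀ D, θ D < 0 → hilbAt M N' D = hilbAt M N D) :
    theta M θ N' ≤ theta M θ N := by
  refine (summable_theta hM hsum N').tsum_le_tsum (fun D => ?_) (summable_theta hM hsum N)
  by_cases hD : θ D < 0
  · rw [heq D hD]
  · haveI := (hM.2.2 D).1
    refine mul_le_mul_of_nonneg_left ?_ (Rat.cast_nonneg.2 (not_lt.1 hD))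
    haveI : Module.Finite k ↥(N ⊓ isoComp M D.1) := Submodule.finiteDimensional_of_le inf_le_right
    exact_mod_cast Submodule.finrank_mono (inf_le_inf_right _ hle)

theorem theta_genIn_le (hM : IsConstellation k A R M h) (hsum : Summable fun D => (θ D : ℝ) * (h D : ℝ))
    (N : Submodule R M) :
    theta M θ ((genIn k A R M {D | θ D < 0} N).restrictScalars k) ≤ theta M θ (N.restrictScalars k) :=
  theta_mono hM hsum (fun _ hx => genIn_le (k := k) (A := A) _ N hx) fun D hD => by
    rw [hilbAt, hilbAt, inf_genIn (S := {D | θ D < 0}) N (show D ∈ {D | θ D < 0} from hD)]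

theorem hilb_eq_zero_of_genIn_bot {N : Submodule R M} (h0 : genIn k A R M {D | θ D < 0} N = ⊥)
    (D : SimpSub k A) (hD : θ D < 0) : hilbAt M (N.restrictScalars k) D = 0 := by
  rw [hilbAt, ← inf_genIn (S := {D | θ D < 0}) N hD, h0, Submodule.restrictScalars_bot, bot_inf_eq, finrank_bot]

theorem nonneg_of_genIn_bot {N : Submodule R M} (h0 : genIn k A R M {D | θ D < 0} N = ⊥) :
    0 ≤ theta M θ (N.restrictScalars k) := by
  refine tsum_nonneg fun D => ?_
  by_cases hD : θ D < 0
  · rw [hilb_eq_zero_of_genIn_bot h0 D hD, Nat.cast_zero, mul_zero]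
  · exact mul_nonneg (Rat.cast_nonneg.2 (not_lt.1 hD)) (Nat.cast_nonneg _)

theorem semistable_of (hM : IsConstellation k A R M h) (hsum : HasSum (fun D => (θ D : ℝ) * (h D : ℝ)) 0)
    (hss : ∀ N : Submodule R M, HopfRep.IsSubcomod (k := k) (A := A) (N.restrictScalars k) → N ≠ ⊥ → N ≠ ⊤ →
      genIn k A R M {D | θ D < 0} N = N → 0 ≤ theta M θ (N.restrictScalars k)) :
    IsThetaSemistable k A R M θ := by
  refine ⟨theta_top hM hsum, fun N hN => ?_⟩
  by_cases hb : genIn k A R M {D | θ D < 0} N = ⊥
  · exact nonneg_of_genIn_bot hb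
  refine le_trans ?_ (theta_genIn_le hM hsum.summable N)
  by_cases ht : genIn k A R M {D | θ D < 0} N = ⊤
  · rw [ht, Submodule.restrictScalars_top, theta_top hM hsum]
  · exact hss _ (isSubcomod_genIn _ hN) hb ht (genIn_idem _ _)

theorem stable_of (hM : IsConstellation k A R M h) (hsum : HasSum (fun D => (θ D : ℝ) * (h D : ℝ)) 0)
    (hθ : ∀ D, h D ≠ 0 → θ D ≠ 0)
    (hs : ∀ N : Submodule R M, HopfRep.IsSubcomod (k := k) (A := A) (N.restrictScalars k) → N ≠ ⊥ → N ≠ ⊤ →
      genIn k A R M {D | θ D < 0} N = N → 0 < theta M θ (N.restrictScalars k)) :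
    IsThetaStable k A R M θ := by
  refine ⟨theta_top hM hsum, fun N hN hNb hNt => ?_⟩
  by_cases hb : genIn k A R M {D | θ D < 0} N = ⊥
  · refine lt_of_le_of_ne (nonneg_of_genIn_bot hb) fun h0 => hNb ?_
    have hterm : ∀ D, (θ D : ℝ) * (hilbAt M (N.restrictScalars k) D : ℝ) = 0 := by
      have hnn : ∀ D, 0 ≤ (θ D : ℝ) * (hilbAt M (N.restrictScalars k) D : ℝ) := fun D => by
        by_cases hD : θ D < 0
        · rw [hilb_eq_zero_of_genIn_bot hb D hD, Nat.cast_zero, mul_zero]
        · exact mul_nonneg (Rat.cast_nonneg.2 (not_lt.1 hD)) (Nat.cast_nonneg _)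
      have h2 := (summable_theta hM hsum.summable (N.restrictScalars k)).hasSum
      rw [← theta, ← h0] at h2
      have h1 := (hasSum_zero_iff_of_nonneg hnn).1 h2
      exact fun D => congrFun h1 D
    rw [← Submodule.restrictScalars_eq_bot_iff (S := k), eq_bot_iff]
    refine (le_iSup_inf hM.2.1 hN).trans (iSup_le fun D => ?_)
    haveI := (hM.2.2 D).1
    haveI : Module.Finite k ↥(N.restrictScalars k ⊓ isoComp M D.1) := Submodule.finiteDimensional_of_le inf_le_right
    have h2 : hilbAt M (N.restrictScalars k) D = 0 := by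
      rcases eq_or_ne (h D) 0 with h3 | h3
      · exact Nat.eq_zero_of_le_zero (h3 ▸ hilbAt_le hM _ D)
      · exact_mod_cast (mul_eq_zero.1 (hterm D)).resolve_left (by exact_mod_cast hθ D h3)
    exact (Submodule.finrank_eq_zero.1 h2).le
  refine lt_of_lt_of_le ?_ (theta_genIn_le hM hsum.summable N)
  exact hs _ (isSubcomod_genIn _ hN) hb (fun ht => hNt (top_le_iff.1 (ht ▸ genIn_le _ _))) (genIn_idem _ _)

theorem exists_neg_ne (hsum : HasSum (fun D => (θ D : ℝ) * (h D : ℝ)) 0) (hne : ∃ D, θ D ≠ 0 ∧ h D ≠ 0) :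
    ∃ D, θ D < 0 ∧ h D ≠ 0 := by
  by_contra hc
  push Not at hc
  have hnn : ∀ D, 0 ≤ (θ D : ℝ) * (h D : ℝ) := fun D => by
    by_cases hD : θ D < 0
    · rw [hc D hD, Nat.cast_zero, mul_zero]
    · exact mul_nonneg (Rat.cast_nonneg.2 (not_lt.1 hD)) (Nat.cast_nonneg _)
  obtain ⟨D, h1, h2⟩ := hne
  have := congrFun ((hasSum_zero_iff_of_nonneg hnn).1 hsum) D
  simp [h1, h2] at this

theorem genIn_eq_top_of_stable (hM : IsConstellation k A R M h) (hsum : HasSum (fun D => (θ D : ℝ) * (h D : ℝ)) 0)
    (hne : ∃ D, θ D ≠ 0 ∧ h D ≠ 0) (hst : IsThetaStable k A R M θ) : genIn k A R M {D | θ D < 0} ⊤ = ⊤ := by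
  by_contra ht
  have hb : genIn k A R M {D | θ D < 0} ⊤ ≠ ⊥ := fun hb => by
    obtain ⟨D, hD, hh⟩ := exists_neg_ne hsum hne
    have := hilb_eq_zero_of_genIn_bot hb D hD
    rw [Submodule.restrictScalars_top, hilbAt_top hM] at this
    exact hh this
  have h1 := hst.2 _ (isSubcomod_genIn _ (by rw [Submodule.restrictScalars_top]; exact isSubcomod_top)) hb ht
  have h2 := theta_genIn_le (θ := θ) hM hsum.summable ⊤
  rw [Submodule.restrictScalars_top, theta_top hM hsum] at h2
  linarith

theorem genIn_eq_top_of_semistable (hM : IsConstellation k A R M h) (hsum : HasSum (fun D => (θ D : ℝ) * (h D : ℝ)) 0)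
    (hθ : ∀ D, θ D ≠ 0) (hss : IsThetaSemistable k A R M θ) : genIn k A R M {D | θ D < 0} ⊤ = ⊤ := by
  set P := genIn k A R M {D | θ D < 0} (⊤ : Submodule R M)
  have h1 := hss.2 P (isSubcomod_genIn _ (by rw [Submodule.restrictScalars_top]; exact isSubcomod_top))
  have hle : ∀ D, (θ D : ℝ) * (hilbAt M (P.restrictScalars k) D : ℝ) ≤ (θ D : ℝ) * (h D : ℝ) := fun D => by
    by_cases hD : θ D < 0
    · rw [hilbAt, inf_genIn (S := {D | θ D < 0}) ⊤ hD, Submodule.restrictScalars_top, ← hilbAt, hilbAt_top hM]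
    · exact mul_le_mul_of_nonneg_left (by exact_mod_cast hilbAt_le hM _ D) (Rat.cast_nonneg.2 (not_lt.1 hD))
  have hd := hsum.sub (summable_theta hM hsum.summable (P.restrictScalars k)).hasSum
  have h0 : theta M θ (P.restrictScalars k) = 0 :=
    le_antisymm (((summable_theta hM hsum.summable _).tsum_le_tsum hle hsum.summable).trans hsum.tsum_eq.le) h1
  rw [theta] at h0
  rw [h0, sub_zero] at hd
  have h2 := (hasSum_zero_iff_of_nonneg fun D => sub_nonneg.2 (hle D)).1 hd
  rw [← Submodule.restrictScalars_eq_top_iff k, eq_top_iff, ← hM.2.1]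
  refine iSup_le fun D => ?_
  haveI := (hM.2.2 D).1
  have h3 : h D = hilbAt M (P.restrictScalars k) D := by
    have := sub_eq_zero.1 (congrFun h2 D)
    exact_mod_cast mul_left_cancel₀ (by exact_mod_cast hθ D) this
  have h4 : P.restrictScalars k ⊓ isoComp M D.1 = isoComp M D.1 :=
    Submodule.eq_of_le_of_finrank_le inf_le_right (by rw [(hM.2.2 D).2, h3]; rfl)
  exact h4 ▸ inf_le_left

theorem stable_of_gen (hM : IsConstellation k A R M h) (hsum : HasSum (fun D => (θ D : ℝ) * (h D : ℝ)) 0)
    (D₀ : SimpSub k A) (h1 : h D₀ = 1) (hneg : ∀ D, θ D < 0 ↔ D = D₀) (hθ : ∀ D, h D ≠ 0 → θ D ≠ 0)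
    (hgen : genIn k A R M {D₀} ⊤ = ⊤) : IsThetaStable k A R M θ := by
  have hS : {D | θ D < 0} = {D₀} := Set.ext hneg
  refine stable_of hM hsum hθ fun N _ hb ht he => ?_
  exfalso
  rw [hS] at he
  haveI := (hM.2.2 D₀).1
  haveI : Module.Finite k ↥(N.restrictScalars k ⊓ isoComp M D₀.1) := Submodule.finiteDimensional_of_le inf_le_right
  rcases Nat.eq_zero_or_pos (hilbAt M (N.restrictScalars k) D₀) with h0 | h0
  · refine hb (he ▸ ?_)
    rw [genIn, Submodule.span_eq_bot]
    intro y hy
    simp only [Set.mem_singleton_iff, Set.iUnion_iUnion_eq_left, SetLike.mem_coe] at hy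
    rw [hilbAt, Submodule.finrank_eq_zero] at h0
    rwa [h0, Submodule.mem_bot] at hy
  · have h4 : N.restrictScalars k ⊓ isoComp M D₀.1 = isoComp M D₀.1 :=
      Submodule.eq_of_le_of_finrank_le inf_le_right (by rw [(hM.2.2 D₀).2, h1]; exact h0)
    refine ht (top_le_iff.1 (hgen ▸ Submodule.span_le.2 fun y hy => ?_))
    simp only [Set.mem_singleton_iff, Set.iUnion_iUnion_eq_left, SetLike.mem_coe, Submodule.restrictScalars_top,
      top_inf_eq] at hy
    rw [← h4] at hy
    exact hy.1

end Stability

end Groth.Agent.GHConst2
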